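import Mathlib
import Cfsg.Prelude.Def_Characters
import Cfsg.Agent.Lib.Centralizers.GL2

/-!
# Functions induced from the Borel subgroup of `SL₂`
-/

set_option autoImplicit false

namespace CfsgLib.SL2Borel

open Matrix

universe u

variable {F : Type u} [Field F]

local notation "L" => Matrix.SpecialLinearGroup (Fin 2) F
local notation "M2" => Matrix (Fin 2) (Fin 2) F

/-- The upper triangular subgroup of `SL₂`. -/
abbrev B (F : Type u) [Field F] : Subgroup (Matrix.SpecialLinearGroup (Fin 2) F) :=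
  (Cfsg.upperTriangularGL 2 F).comap Matrix.SpecialLinearGroup.toGL

theorem mem_B (g : L) : g ∈ B F ↔ (g : M2) 1 0 = 0 :=
  CfsgLib.Centralizers.GL2.mem_borel _

theorem det_eq (g : L) : (g : M2) 0 0 * (g : M2) 1 1 - (g : M2) 0 1 * (g : M2) 1 0 = 1 := by
  rw [← Matrix.det_fin_two]; exact g.det_coe

theorem entry (a b : L) (i j : Fin 2) :
    ((a * b : L) : M2) i j = (a : M2) i 0 * (b : M2) 0 j + (a : M2) i 1 * (b : M2) 1 j := by
  rw [Matrix.SpecialLinearGroup.coe_mul, Matrix.mul_apply, Fin.sum_univ_two]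

theorem inv00 (a : L) : ((a⁻¹ : L) : M2) 0 0 = (a : M2) 1 1 := by
  simp [Matrix.SpecialLinearGroup.coe_inv, Matrix.adjugate_fin_two]
theorem inv01 (a : L) : ((a⁻¹ : L) : M2) 0 1 = -(a : M2) 0 1 := by
  simp [Matrix.SpecialLinearGroup.coe_inv, Matrix.adjugate_fin_two]
theorem inv10 (a : L) : ((a⁻¹ : L) : M2) 1 0 = -(a : M2) 1 0 := by
  simp [Matrix.SpecialLinearGroup.coe_inv, Matrix.adjugate_fin_two]
theorem inv11 (a : L) : ((a⁻¹ : L) : M2) 1 1 = (a : M2) 0 0 := by
  simp [Matrix.SpecialLinearGroup.coe_inv, Matrix.adjugate_fin_two]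

/-- Coset representatives of the Borel subgroup. -/
def rep : Option F → L
  | none => 1
  | some x => ⟨!![x, -1; 1, 0], by simp [Matrix.det_fin_two]⟩

theorem rep_bijective : Function.Bijective (fun p : Option F × B F => rep p.1 * (p.2 : L)) := by
  classical
  constructor
  · rintro ⟨o, b, hb⟩ ⟨o', b', hb'⟩ h
    have e0 := congrArg (fun y : L => (y : M2) 0 0) h
    have e1 := congrArg (fun y : L => (y : M2) 1 0) h
    have hd := det_eq b
    have hd' := det_eq b'
    rw [mem_B] at hb hb'
    rw [hb, mul_zero, sub_zero] at hd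
    rw [hb', mul_zero, sub_zero] at hd'
    simp only [entry, hb, hb', mul_zero, add_zero] at e0 e1
    have ho : o = o' := by
      cases o with
      | none =>
        cases o' with
        | none => rfl
        | some x => simp [rep] at e1; rw [← e1, zero_mul] at hd'; exact absurd hd' zero_ne_one
      | some x =>
        cases o' with
        | none => simp [rep] at e1; rw [e1, zero_mul] at hd; exact absurd hd zero_ne_one
        | some x' =>
          simp [rep] at e0 e1
          rw [← e1] at e0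
          rw [mul_right_cancel₀ (left_ne_zero_of_mul_eq_one hd) e0]
    subst ho
    simp only [mul_right_inj] at h
    subst h
    rfl
  · intro y
    by_cases hy : (y : M2) 1 0 = 0
    · exact ⟨⟨none, y, (mem_B y).mpr hy⟩, one_mul y⟩
    · refine ⟨⟨some ((y : M2) 0 0 / (y : M2) 1 0), ⟨(rep (some ((y : M2) 0 0 / (y : M2) 1 0)))⁻¹ * y, ?_⟩⟩,
        mul_inv_cancel_left _ _⟩
      rw [mem_B, entry, inv10, inv11]
      simp [rep]
      field_simp
      ring

/-- Extension by zero of a character of the torus. -/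
noncomputable def ext (α : MulChar F ℂ) (y : L) : ℂ :=
  open Classical in if (y : M2) 1 0 = 0 then α ((y : M2) 0 0) else 0

theorem ext_eq (α : MulChar F ℂ) (y : L) :
    Cfsg.extendByZero (B F) (fun b => α (((b : L) : M2) 0 0)) y = ext α y := by
  unfold Cfsg.extendByZero ext
  by_cases hy : (y : M2) 1 0 = 0
  · rw [if_pos hy]
    exact Subtype.val_injective.extend_apply (fun b : B F => α (((b : L) : M2) 0 0)) 0 ⟨y, (mem_B y).mpr hy⟩
  · rw [if_neg hy, Function.extend_apply' _ _ _ (fun ⟨b, hb⟩ => hy (hb ▸ (mem_B _).mp b.2))]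
    rfl

theorem ext_conj (α : MulChar F ℂ) {b : L} (hb : b ∈ B F) (y : L) : ext α (b⁻¹ * y * b) = ext α y := by
  rw [mem_B] at hb
  have hd := det_eq b
  rw [hb, mul_zero, sub_zero] at hd
  have h10 : ((b⁻¹ * y * b : L) : M2) 1 0 = (b : M2) 0 0 * (b : M2) 0 0 * (y : M2) 1 0 := by
    rw [entry, entry, inv10, inv11, hb]; ring
  have h00 : (y : M2) 1 0 = 0 → ((b⁻¹ * y * b : L) : M2) 0 0 = (y : M2) 0 0 := by
    intro hy
    rw [entry, entry, inv00, inv01, hb, hy]
    linear_combination (y : M2) 0 0 * hd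
  unfold ext
  by_cases hy : (y : M2) 1 0 = 0
  · rw [if_pos hy, if_pos (by rw [h10, hy, mul_zero]), h00 hy]
  · rw [if_neg hy, if_neg (by
      rw [h10]; exact mul_ne_zero (mul_ne_zero (left_ne_zero_of_mul_eq_one hd) (left_ne_zero_of_mul_eq_one hd)) hy)]

theorem indFun_eq [Fintype F] [DecidableEq F] (α : MulChar F ℂ) (g : L) :
    Cfsg.indFun (B F) (fun b => α (((b : L) : M2) 0 0)) g =
      (if (g : M2) 1 0 = 0 then α ((g : M2) 0 0) else 0) +
        ∑ x : F, if (g : M2) 1 0 * x * x + ((g : M2) 1 1 - (g : M2) 0 0) * x - (g : M2) 0 1 = 0 then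
          α ((g : M2) 1 0 * x + (g : M2) 1 1) else 0 := by
  classical
  haveI : Fintype (B F) := Fintype.ofFinite _
  unfold Cfsg.indFun
  simp only [ext_eq]
  rw [← Fintype.sum_bijective _ rep_bijective (fun p => ext α ((rep p.1 * (p.2 : L))⁻¹ * g * (rep p.1 * (p.2 : L))))
    _ (fun p => rfl), Fintype.sum_prod_type]
  have h : ∀ (o : Option F) (b : B F), ext α ((rep o * (b : L))⁻¹ * g * (rep o * (b : L))) = ext α ((rep o)⁻¹ * g * rep o) := by
    intro o b
    rw [← ext_conj α b.2 ((rep o)⁻¹ * g * rep o)]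
    congr 1
    group
  simp only [h, Finset.sum_const, Finset.card_univ, nsmul_eq_mul]
  rw [← Finset.mul_sum, ← mul_assoc, Nat.card_eq_fintype_card, inv_mul_cancel₀ (Nat.cast_ne_zero.mpr Fintype.card_ne_zero), one_mul, Fintype.sum_option]
  congr 1
  · simp [rep, ext]
  · refine Finset.sum_congr rfl fun x _ => ?_
    have h10 : (((rep (some x))⁻¹ * g * rep (some x) : L) : M2) 1 0 =
        (g : M2) 1 0 * x * x + ((g : M2) 1 1 - (g : M2) 0 0) * x - (g : M2) 0 1 := by
      rw [entry, entry, entry, inv10, inv11]; simp [rep]; ring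
    have h00 : (((rep (some x))⁻¹ * g * rep (some x) : L) : M2) 0 0 = (g : M2) 1 0 * x + (g : M2) 1 1 := by
      rw [entry, entry, entry, inv00, inv01]; simp [rep]
    unfold ext
    rw [h10, h00]
    congr

end CfsgLib.SL2Borel
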