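import Mathlib
import Cfsg.Agent.Lib.SL2Borel.Induced

/-!
# Classes of the Borel subgroup of `SL₂`
-/

set_option autoImplicit false

namespace CfsgLib.SL2Borel

open Matrix

universe u

variable {F : Type u} [Field F]

local notation "L" => Matrix.SpecialLinearGroup (Fin 2) F
local notation "M2" => Matrix (Fin 2) (Fin 2) F

def belt (a : Fˣ) (b : F) : B F :=
  ⟨⟨!![(a : F), b; 0, ((a⁻¹ : Fˣ) : F)], by simp [Matrix.det_fin_two]⟩, (mem_B _).mpr rfl⟩

theorem belt_coe (a : Fˣ) (b : F) : ((belt a b : L) : M2) = !![(a : F), b; 0, ((a⁻¹ : Fˣ) : F)] := rfl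

theorem belt_bijective : Function.Bijective (fun p : Fˣ × F => belt p.1 p.2) := by
  constructor
  · rintro ⟨a, b⟩ ⟨a', b'⟩ h
    have h0 := congrArg (fun y : B F => ((y : L) : M2) 0 0) h
    have h1 := congrArg (fun y : B F => ((y : L) : M2) 0 1) h
    simp [belt] at h0 h1
    exact Prod.ext (Units.ext h0) h1
  · rintro ⟨g, hg⟩
    have h10 := (mem_B g).mp hg
    have hd := det_eq g
    rw [h10, mul_zero, sub_zero] at hd
    refine ⟨⟨Units.mk0 _ (left_ne_zero_of_mul_eq_one hd), (g : M2) 0 1⟩, Subtype.ext (Subtype.ext ?_)⟩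
    ext i j
    fin_cases i <;> fin_cases j <;> simp [belt, h10, eq_inv_of_mul_eq_one_right hd]

theorem commute_belt (a c : Fˣ) (b d : F) :
    Commute (belt a b) (belt c d) ↔ b * ((c : F)⁻¹ - c) = d * ((a : F)⁻¹ - a) := by
  unfold Commute SemiconjBy
  rw [← Subtype.coe_inj, Subgroup.coe_mul, Subgroup.coe_mul]
  constructor
  · intro h
    have h1 := congrArg (fun y : L => (y : M2) 0 1) h
    simp [entry, belt_coe] at h1
    linear_combination h1
  · intro h
    apply Subtype.ext
    ext i j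
    fin_cases i <;> fin_cases j <;> simp [entry, belt_coe]
    · ring
    · linear_combination h
    · ring

theorem card_classes [Fintype F] (hodd : Odd (Fintype.card F)) :
    Nat.card (ConjClasses (B F)) = Fintype.card F + 3 := by
  classical
  set q := Fintype.card F with hq
  have hq2 : 2 ≤ q := Fintype.one_lt_card
  have hneg : (-1 : F) ≠ 1 := by
    refine Ring.neg_one_ne_one_of_char_ne_two fun h => ?_
    rw [hq] at hodd
    have := FiniteField.even_card_iff_char_two.mp h
    rw [Nat.odd_iff] at hodd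
    omega
  let e := Equiv.ofBijective _ (belt_bijective (F := F))
  have hB : Nat.card (B F) = (q - 1) * q := by
    rw [← Nat.card_congr e, Nat.card_prod, Nat.card_units, Nat.card_eq_fintype_card]
  have hpairs : Nat.card {p : B F × B F // Commute p.1 p.2} = (q + 3) * ((q - 1) * q) := by
    let T := {x : (Fˣ × Fˣ) × (F × F) // x.2.1 * ((x.1.2 : F)⁻¹ - x.1.2) = x.2.2 * ((x.1.1 : F)⁻¹ - x.1.1)}
    have e1 : T ≃ {p : B F × B F // Commute p.1 p.2} :=
      ((Equiv.prodProdProdComm Fˣ Fˣ F F).trans (Equiv.prodCongr e e)).subtypeEquiv fun x => (commute_belt _ _ _ _).symm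
    rw [← Nat.card_congr e1, Nat.card_congr (Equiv.subtypeProdEquivSigmaSubtype
      (fun (ac : Fˣ × Fˣ) (bd : F × F) => bd.1 * ((ac.2 : F)⁻¹ - ac.2) = bd.2 * ((ac.1 : F)⁻¹ - ac.1))), Nat.card_sigma]
    have hzero : ∀ a : Fˣ, ((a : F)⁻¹ - a = 0) ↔ a ∈ ({1, -1} : Finset Fˣ) := fun a => by
      rw [Finset.mem_insert, Finset.mem_singleton, sub_eq_zero]
      constructor
      · intro h
        have h2 : (a : F) ^ 2 = 1 := by
          rw [sq]; nth_rw 1 [← h]; exact inv_mul_cancel₀ a.ne_zero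
        rcases sq_eq_one_iff.mp h2 with h3 | h3
        · exact Or.inl (Units.ext h3)
        · exact Or.inr (Units.ext h3)
      · rintro (rfl | rfl) <;> simp
    have hfib : ∀ ac : Fˣ × Fˣ,
        Nat.card {bd : F × F // bd.1 * ((ac.2 : F)⁻¹ - ac.2) = bd.2 * ((ac.1 : F)⁻¹ - ac.1)} =
          q + if ac ∈ ({1, -1} : Finset Fˣ) ×ˢ ({1, -1} : Finset Fˣ) then q * q - q else 0 := by
      rintro ⟨a, c⟩
      simp only [Finset.mem_product]
      by_cases h : a ∈ ({1, -1} : Finset Fˣ) ∧ c ∈ ({1, -1} : Finset Fˣ)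
      · rw [if_pos h, Nat.card_congr (Equiv.subtypeUnivEquiv fun bd => by
          rw [(hzero a).mpr h.1, (hzero c).mpr h.2, mul_zero, mul_zero]), Nat.card_prod, Nat.card_eq_fintype_card, ← hq]
        have : q ≤ q * q := Nat.le_mul_self q
        omega
      · rw [if_neg h, add_zero]
        refine (Nat.card_congr ?_).trans Nat.card_eq_fintype_card
        by_cases hc : c ∈ ({1, -1} : Finset Fˣ)
        · have ha : ((a : F)⁻¹ - a) ≠ 0 := fun h0 => h ⟨(hzero a).mp h0, hc⟩
          refine ⟨fun bd => bd.1.1, fun b => ⟨(b, 0), by simp [(hzero c).mpr hc]⟩, fun bd => ?_, fun b => rfl⟩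
          obtain ⟨⟨b, d⟩, hbd⟩ := bd
          rw [(hzero c).mpr hc, mul_zero, eq_comm, mul_eq_zero, or_iff_left ha] at hbd
          exact Subtype.ext (Prod.ext rfl hbd.symm)
        · have hc' : ((c : F)⁻¹ - c) ≠ 0 := fun h0 => hc ((hzero c).mp h0)
          refine ⟨fun bd => bd.1.2, fun d => ⟨(d * ((a : F)⁻¹ - a) / ((c : F)⁻¹ - c), d), div_mul_cancel₀ _ hc'⟩,
            fun bd => ?_, fun d => rfl⟩
          exact Subtype.ext (Prod.ext ((div_eq_iff hc').mpr bd.2.symm) rfl)
    simp only [hfib, Finset.sum_add_distrib, Finset.sum_const, Finset.sum_ite_mem, Finset.univ_inter, smul_eq_mul]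
    rw [Finset.card_univ, Fintype.card_prod, Fintype.card_units, Finset.card_product,
      Finset.card_pair (fun h : (1 : Fˣ) = -1 => hneg (by rw [← Units.val_one, ← Units.val_neg, ← h])), ← hq]
    have hqq : q ≤ q * q := Nat.le_mul_self q
    obtain ⟨k, hk⟩ : ∃ k, q = k + 2 := ⟨q - 2, by omega⟩
    rw [hk] at hqq ⊢
    zify [hqq, show 1 ≤ k + 2 by omega]
    ring
  haveI : Fintype (B F) := Fintype.ofFinite _
  have hcc := card_comm_eq_card_conjClasses_mul_card (B F)
  rw [hpairs, hB] at hcc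
  exact (Nat.eq_of_mul_eq_mul_right (by positivity [show 0 < q - 1 by omega]) hcc).symm

end CfsgLib.SL2Borel
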