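import Mathlib
import Cfsg.Agent.Lib.SL2Borel.Classes
import Cfsg.Agent.Lib.Chars.Induced
import Cfsg.Agent.Lib.Chars.Linear

/-!
# Inner products of principal series of `SL₂`
-/

set_option autoImplicit false

namespace CfsgLib.SL2Borel

open Matrix CfsgLib.Chars
open scoped ComplexConjugate

universe u

variable {F : Type u} [Field F] [Fintype F] [DecidableEq F]

local notation "L" => Matrix.SpecialLinearGroup (Fin 2) F
local notation "M2" => Matrix (Fin 2) (Fin 2) F

theorem sum_units_mulChar (χ : MulChar F ℂ) [Decidable (χ = 1)] :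
    ∑ a : Fˣ, χ (a : F) = if χ = 1 then (Nat.card Fˣ : ℂ) else 0 := by
  classical
  have h : ∑ a : F, χ a = ∑ a : Fˣ, χ (a : F) := by
    rw [← Finset.sum_filter_of_ne (s := Finset.univ) (p := fun a : F => IsUnit a) (fun a _ ha => by
      by_contra hu; exact ha (χ.map_nonunit hu))]
    refine (Finset.sum_bij (fun (a : Fˣ) _ => (a : F)) ?_ ?_ ?_ ?_).symm
    · simp
    · exact fun a _ b _ h => Units.ext h
    · intro b hb
      obtain ⟨u, hu⟩ := (Finset.mem_filter.1 hb).2
      exact ⟨u, Finset.mem_univ _, hu⟩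
    · exact fun a _ => rfl
  rw [← h]
  split_ifs with h1
  · rw [h1, MulChar.sum_one_eq_card_units, Nat.card_eq_fintype_card]
  · exact MulChar.sum_eq_zero_of_ne_one h1


theorem inner_eq (α β : MulChar F ℂ)
    [Decidable (α = β)] [Decidable (α = β⁻¹)] :
    Cfsg.classInner (Cfsg.indFun (B F) (fun b => α (((b : L) : M2) 0 0)))
      (Cfsg.indFun (B F) (fun b => β (((b : L) : M2) 0 0))) =
      (if α = β then 1 else 0) + (if α = β⁻¹ then 1 else 0) := by
  classical
  haveI : Fintype (B F) := Fintype.ofFinite _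
  rw [CfsgLib.Chars.frobenius _ _ (indFun_isClassFunction _ _), Cfsg.classInner]
  set e := Equiv.ofBijective _ (belt_bijective (F := F)) with he
  rw [← Fintype.sum_equiv e
    (fun p : Fˣ × F => α (p.1 : F) * conj (Cfsg.indFun (B F) (fun b => β (((b : L) : M2) 0 0)) ((belt p.1 p.2 : B F) : L)))
    _ (fun p => by rfl)]
  have hcard : Nat.card (B F) = Nat.card Fˣ * Fintype.card F := by
    rw [← Nat.card_congr e, Nat.card_prod, Nat.card_eq_fintype_card (α := F)]
  have hval : ∀ (a : Fˣ) (c : F), Cfsg.indFun (B F) (fun b => β (((b : L) : M2) 0 0)) ((belt a c : B F) : L) =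
      β (a : F) + ∑ x : F, if ((a : F)⁻¹ - a) * x = c then β (a : F)⁻¹ else 0 := by
    intro a c
    rw [indFun_eq β, belt_coe]
    simp [sub_eq_zero]
  have hsum : ∀ a : Fˣ, ∑ c : F, α (a : F) * conj (Cfsg.indFun (B F) (fun b => β (((b : L) : M2) 0 0)) ((belt a c : B F) : L)) =
      (Fintype.card F : ℂ) * ((α * β⁻¹) (a : F) + (α * β) (a : F)) := by
    intro a
    simp only [hval, map_add, map_sum, mul_add, Finset.sum_add_distrib]
    rw [Finset.sum_const, nsmul_eq_mul, Finset.card_univ]
    congr 1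
    · rw [MulChar.mul_apply, ← MulChar.star_apply', RCLike.star_def]
    · rw [← Finset.mul_sum, Finset.sum_comm]
      simp only [apply_ite (starRingEnd ℂ), map_zero, Finset.sum_ite_eq, Finset.mem_univ, if_true,
        Finset.sum_const, nsmul_eq_mul, Finset.card_univ]
      rw [MulChar.mul_apply, ← RCLike.star_def, MulChar.star_apply', ← MulChar.inv_apply']
      simp only [inv_inv]
      ring
  rw [Fintype.sum_prod_type, Finset.sum_congr rfl (fun a _ => hsum a), ← Finset.mul_sum,
    Finset.sum_add_distrib, sum_units_mulChar, sum_units_mulChar, hcard]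
  have h1 : (α * β⁻¹ = 1) ↔ α = β := mul_inv_eq_one
  have h2 : (α * β = 1) ↔ α = β⁻¹ := mul_eq_one_iff_eq_inv
  simp only [h1, h2]
  have hu : (Nat.card Fˣ : ℂ) ≠ 0 := natCast_card_ne_zero Fˣ
  have hF : (Fintype.card F : ℂ) ≠ 0 := Nat.cast_ne_zero.2 Fintype.card_ne_zero
  push_cast
  split_ifs <;> field_simp <;> ring

theorem isCharacter_principal (α : MulChar F ℂ) :
    Cfsg.IsCharacter L (Cfsg.indFun (B F) (fun b => α (((b : L) : M2) 0 0))) := by
  haveI : Fintype (B F) := Fintype.ofFinite _
  refine IsCharacter.indFun (B F) ?_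
  let f0 : B F →* ℂ :=
    { toFun := fun b => α (((b : L) : M2) 0 0)
      map_one' := by simp
      map_mul' := fun b c => by
        have hc : ((c : L) : M2) 1 0 = 0 := (mem_B _).1 c.2
        rw [Subgroup.coe_mul, entry, hc, mul_zero, add_zero, map_mul] }
  exact isCharacter_hom f0.toHomUnits

end CfsgLib.SL2Borel
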