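import Mathlib
import Cfsg.Agent.Lib.GL2Borel.Degrees
import Cfsg.Agent.Lib.Linear.Card
import Cfsg.Agent.Lib.Chars.Clifford
import Cfsg.Agent.Lib.Chars.Misc
import Cfsg.Agent.Lib.SL2Borel.Induced

/-!
# Characters of `SL₂` from those of `GL₂`
-/

set_option autoImplicit false

namespace CfsgLib.SL2Borel

open Matrix CfsgLib.Chars Cfsg
open CfsgLib.GL2Borel (lam lam_apply wt)
open scoped ComplexConjugate

universe u

variable {F : Type u} [Field F] [Fintype F] [DecidableEq F]

local notation "G2" => Matrix.GeneralLinearGroup (Fin 2) F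
local notation "L" => Matrix.SpecialLinearGroup (Fin 2) F
local notation "M2" => Matrix (Fin 2) (Fin 2) F

/-- `SL₂` inside `GL₂`. -/
abbrev NS (F : Type u) [Field F] : Subgroup (Matrix.GeneralLinearGroup (Fin 2) F) :=
  (Matrix.SpecialLinearGroup.toGL : Matrix.SpecialLinearGroup (Fin 2) F →* _).range

instance normalNS [Fintype F] [DecidableEq F] : (NS F).Normal := by
  rw [NS, ← CfsgLib.Linear.Card.det_ker_eq (ι := Fin 2) (F := F)]; infer_instance

/-- The identification. -/
noncomputable def eNS (F : Type u) [Field F] [Fintype F] : Matrix.SpecialLinearGroup (Fin 2) F ≃* NS F :=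
  MonoidHom.ofInjective CfsgLib.Linear.Card.toGL_injective

theorem eNS_coe (g : L) : ((eNS F g : NS F) : G2) = Matrix.SpecialLinearGroup.toGL g := rfl

/-- Conjugation of `SL₂` by an element of `GL₂`. -/
noncomputable def cg (y : G2) : L ≃* L := ((eNS F).trans (conjN (NS F) y)).trans (eNS F).symm

theorem toGL_cg (y : G2) (g : L) :
    Matrix.SpecialLinearGroup.toGL (cg y g) = y * Matrix.SpecialLinearGroup.toGL g * y⁻¹ := by
  rw [← eNS_coe, cg, MulEquiv.trans_apply, MulEquiv.trans_apply, MulEquiv.apply_symm_apply, conjN_coe, eNS_coe]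

theorem cg_eq (ψ : IrrCharacter L) (y : G2) (g : L)
    (h : ∃ c : G2, c * Matrix.SpecialLinearGroup.toGL g = Matrix.SpecialLinearGroup.toGL g * c ∧
      Matrix.GeneralLinearGroup.det c = Matrix.GeneralLinearGroup.det y) :
    (ψ : L → ℂ) (cg y g) = (ψ : L → ℂ) g := by
  obtain ⟨c, hc, hdet⟩ := h
  have hs : y * c⁻¹ ∈ NS F := by
    rw [NS, ← CfsgLib.Linear.Card.det_ker_eq, MonoidHom.mem_ker, map_mul, map_inv, hdet, mul_inv_cancel]
  obtain ⟨s, hs⟩ := hs
  rw [← IsCharacter.isClassFunction (isCharacter_irr ψ) g s]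
  refine congrArg _ (CfsgLib.Linear.Card.toGL_injective ?_)
  rw [toGL_cg, map_mul, map_mul, map_inv, hs]
  calc y * Matrix.SpecialLinearGroup.toGL g * y⁻¹
      = y * c⁻¹ * (c * Matrix.SpecialLinearGroup.toGL g) * y⁻¹ := by group
    _ = y * c⁻¹ * (Matrix.SpecialLinearGroup.toGL g * c) * y⁻¹ := by rw [hc]
    _ = y * c⁻¹ * Matrix.SpecialLinearGroup.toGL g * (y * c⁻¹)⁻¹ := by group

theorem sum_lam (g : G2) :
    letI := Fintype.ofFinite (MulChar F ℂ)
    ∑ μ : MulChar F ℂ, (lam μ : G2 → ℂ) g =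
      if g ∈ NS F then (Nat.card Fˣ : ℂ) else 0 := by
  classical
  letI := Fintype.ofFinite (MulChar F ℂ)
  have hn : (Fintype.card (MulChar F ℂ) : ℂ) = (Nat.card Fˣ : ℂ) := by
    obtain ⟨e⟩ := MulChar.mulEquiv_units F ℂ
    rw [← Nat.card_eq_fintype_card, Nat.card_congr e.toEquiv]
  have hval : ∀ μ : MulChar F ℂ, (lam μ : G2 → ℂ) g = μ ((Matrix.GeneralLinearGroup.det g : Fˣ) : F) := fun μ => by
    rw [lam_apply, Matrix.GeneralLinearGroup.val_det_apply, Matrix.det_fin_two]
  simp only [hval]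
  have hiff : (g ∈ NS F) ↔ Matrix.GeneralLinearGroup.det g = 1 := by
    rw [← MonoidHom.mem_ker, CfsgLib.Linear.Card.det_ker_eq]
  by_cases h : Matrix.GeneralLinearGroup.det g = 1
  · rw [if_pos (hiff.2 h), h]
    simp [hn]
  · rw [if_neg (fun h' => h (hiff.1 h'))]
    obtain ⟨φ, hφ⟩ := MulChar.exists_apply_ne_one_of_hasEnoughRootsOfUnity F ℂ
      (a := ((Matrix.GeneralLinearGroup.det g : Fˣ) : F)) (fun h' => h (Units.ext (by simpa using h')))
    set s := ∑ μ : MulChar F ℂ, μ ((Matrix.GeneralLinearGroup.det g : Fˣ) : F) with hs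
    have h2 : φ ((Matrix.GeneralLinearGroup.det g : Fˣ) : F) * s = s := by
      rw [hs, Finset.mul_sum]
      exact Fintype.sum_equiv (Equiv.mulLeft φ) _ _ fun μ => by simp [MulChar.mul_apply]
    have h3 : (φ ((Matrix.GeneralLinearGroup.det g : Fˣ) : F) - 1) * s = 0 := by linear_combination h2
    exact (mul_eq_zero.1 h3).resolve_left (sub_ne_zero.2 hφ)

/-- Restriction to `SL₂` has norm at most two, and one in characteristic two. -/
theorem norm_res (χ : IrrCharacter G2) :
    ∃ k : ℕ, classInner (fun g : L => (χ : G2 → ℂ) (Matrix.SpecialLinearGroup.toGL g))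
      (fun g : L => (χ : G2 → ℂ) (Matrix.SpecialLinearGroup.toGL g)) = (k : ℂ) ∧ k ≤ 2 ∧
      (Even (Fintype.card F) → k ≤ 1) := by
  classical
  letI := Fintype.ofFinite (MulChar F ℂ)
  haveI : Fintype (NS F) := Fintype.ofFinite _
  set S := Finset.univ.filter fun μ : MulChar F ℂ =>
    (⟨fun g => (lam μ : G2 → ℂ) g * (χ : G2 → ℂ) g,
      isIrrCharacter_hom_mul (μ.toUnitHom.comp Matrix.GeneralLinearGroup.det) χ⟩ : IrrCharacter G2) = χ with hS
  have hsub : ∀ μ ∈ S, μ ^ 2 = 1 := by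
    intro μ hμ
    rw [hS, Finset.mem_filter] at hμ
    ext a
    let z : G2 := Matrix.GeneralLinearGroup.scalar (Fin 2) a
    have hz : z ∈ Subgroup.center G2 := Subgroup.mem_center_iff.2 fun x => Units.ext (by
      show (x : M2) * Matrix.scalar (Fin 2) (a : F) = Matrix.scalar (Fin 2) (a : F) * (x : M2)
      exact ((Matrix.scalar_commute (a : F) (fun r => Commute.all _ r) (x : M2)).eq).symm)
    have hne : (χ : G2 → ℂ) z ≠ 0 := by
      intro h0
      have := mul_central χ hz z⁻¹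
      rw [mul_inv_cancel, h0, zero_mul] at this
      exact mul_ne_zero (irr_one_ne_zero χ) (irr_one_ne_zero χ) this
    have h1 := congrFun (congrArg Subtype.val hμ.2) z
    have h2 : (lam μ : G2 → ℂ) z = μ ((a : F) ^ 2) := by
      rw [lam_apply]; congr 1; simp [z, Matrix.GeneralLinearGroup.scalar, sq]
    have h3 : (lam μ : G2 → ℂ) z = 1 := by
      have : ((lam μ : G2 → ℂ) z - 1) * (χ : G2 → ℂ) z = 0 := by rw [sub_mul, one_mul]; exact sub_eq_zero.2 h1
      exact sub_eq_zero.1 ((mul_eq_zero.1 this).resolve_right hne)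
    rw [MulChar.pow_apply_coe, ← map_pow, ← h2, h3, MulChar.one_apply_coe]
  refine ⟨S.card, ?_, ?_, ?_⟩
  · have key : ∀ f : G2 → ℂ, ∑ g : L, f (Matrix.SpecialLinearGroup.toGL g) =
        (Nat.card Fˣ : ℂ)⁻¹ * ∑ μ : MulChar F ℂ, ∑ g : G2, (lam μ : G2 → ℂ) g * f g := by
      intro f
      rw [Finset.sum_comm]
      simp only [← Finset.sum_mul, sum_lam, ite_mul, zero_mul]
      rw [← Finset.sum_filter, ← Finset.mul_sum, ← mul_assoc, inv_mul_cancel₀ (natCast_card_ne_zero Fˣ), one_mul,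
        Finset.sum_subtype (Finset.univ.filter fun g => g ∈ NS F) (p := fun g => g ∈ NS F) (fun g => by simp) f]
      exact Fintype.sum_equiv (eNS F).toEquiv _ _ fun g => rfl
    have hG : (Nat.card G2 : ℂ) = (Nat.card Fˣ : ℂ) * (Nat.card L : ℂ) := by
      rw [← Nat.cast_mul, Nat.card_units, Nat.card_eq_fintype_card (α := F)]
      exact congrArg Nat.cast CfsgLib.Linear.Card.card_GL_eq
    rw [classInner, key (fun g => (χ : G2 → ℂ) g * conj ((χ : G2 → ℂ) g))]
    have hμ : ∀ μ : MulChar F ℂ, ∑ g : G2, (lam μ : G2 → ℂ) g * ((χ : G2 → ℂ) g * conj ((χ : G2 → ℂ) g)) =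
        if μ ∈ S then (Nat.card G2 : ℂ) else 0 := by
      intro μ
      have h := sum_mul_conj_irr (⟨fun g => (lam μ : G2 → ℂ) g * (χ : G2 → ℂ) g,
        isIrrCharacter_hom_mul (μ.toUnitHom.comp Matrix.GeneralLinearGroup.det) χ⟩ : IrrCharacter G2) χ
      simp only [← mul_assoc]
      rw [h]
      simp only [hS, Finset.mem_filter, Finset.mem_univ, true_and]
    simp only [hμ, Finset.sum_ite_mem, Finset.univ_inter, Finset.sum_const, nsmul_eq_mul]
    rw [hG]
    have := natCast_card_ne_zero Fˣ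
    have := natCast_card_ne_zero L
    field_simp
  · haveI : IsCyclic (MulChar F ℂ) := by
      obtain ⟨e⟩ := MulChar.mulEquiv_units F ℂ
      exact isCyclic_of_surjective e.symm.toMonoidHom e.symm.surjective
    refine le_trans (Finset.card_le_card fun μ hμ => ?_) (IsCyclic.card_pow_eq_one_le (α := MulChar F ℂ) (n := 2) (by norm_num))
    exact Finset.mem_filter.2 ⟨Finset.mem_univ _, hsub μ hμ⟩
  · intro hev
    refine Finset.card_le_one.2 fun a ha b hb => ?_
    have h1 : ∀ μ ∈ S, μ = 1 := by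
      intro μ hμ
      obtain ⟨j, hj⟩ := hev
      have hq := Fintype.one_lt_card (α := F)
      have hu : μ ^ (Fintype.card F - 1) = 1 := by
        obtain ⟨e⟩ := MulChar.mulEquiv_units F ℂ
        apply e.injective
        rw [map_pow, map_one, ← Nat.card_eq_fintype_card, ← Nat.card_units]
        exact pow_card_eq_one'
      rw [show Fintype.card F - 1 = 2 * (j - 1) + 1 by omega, pow_succ, pow_mul, hsub μ hμ, one_pow, one_mul] at hu
      exact hu
    rw [h1 a ha, h1 b hb]

/-- Clifford theory for `SL₂` in `GL₂`. -/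
theorem orbit_res [Fintype (NS F)] (χ : IrrCharacter G2) (θ : IrrCharacter (NS F))
    (hθ : classInner (fun n : NS F => (χ : G2 → ℂ) n) (θ : NS F → ℂ) ≠ 0) :
    ∃ (Y : Finset G2), (Y.card = 1 ∨ Y.card = 2) ∧
      (Even (Fintype.card F) → Y.card = 1) ∧
      charDegree (χ : G2 → ℂ) = Y.card * charDegree (θ : NS F → ℂ) ∧
      classInner (fun g : L => (χ : G2 → ℂ) (Matrix.SpecialLinearGroup.toGL g))
        (fun g : L => (χ : G2 → ℂ) (Matrix.SpecialLinearGroup.toGL g)) = (Y.card : ℂ) ∧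
      (∀ g : L, (χ : G2 → ℂ) (Matrix.SpecialLinearGroup.toGL g) = ∑ y ∈ Y, (θ : NS F → ℂ) (eNS F (cg y g))) := by
  classical
  obtain ⟨e, he, hinner, hval, hdeg⟩ := clifford (NS F) χ θ hθ
  choose yf hyf using fun η (hη : η ∈ orbit (NS F) θ) => (mem_orbit (NS F)).1 hη
  set Y : Finset G2 := (orbit (NS F) θ).attach.image (fun η => yf η.1 η.2) with hY
  have hYinj : Function.Injective (fun η : {η // η ∈ orbit (NS F) θ} => yf η.1 η.2) := fun a b h => by
    apply Subtype.ext
    rw [hyf a.1 a.2, hyf b.1 b.2]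
    exact congrArg _ h
  have hYc : Y.card = (orbit (NS F) θ).card := by
    rw [hY, Finset.card_image_of_injective _ hYinj, Finset.card_attach]
  have hres : ∀ g : L, (χ : G2 → ℂ) (Matrix.SpecialLinearGroup.toGL g) = (e : ℂ) * ∑ y ∈ Y, (θ : NS F → ℂ) (eNS F (cg y g)) := by
    intro g
    rw [← eNS_coe, hval (eNS F g), hY, Finset.sum_image (fun a _ b _ h => hYinj h),
      ← Finset.sum_attach (orbit (NS F) θ)]
    congr 1
    refine Finset.sum_congr rfl fun η _ => ?_
    conv_lhs => rw [hyf η.1 η.2]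
    rw [conjIrr_apply, cg, MulEquiv.trans_apply, MulEquiv.trans_apply, MulEquiv.apply_symm_apply]
  obtain ⟨k, hk, hk2, hk1⟩ := norm_res χ
  have hnorm : classInner (fun g : L => (χ : G2 → ℂ) (Matrix.SpecialLinearGroup.toGL g))
      (fun g : L => (χ : G2 → ℂ) (Matrix.SpecialLinearGroup.toGL g)) = ((e * e * Y.card : ℕ) : ℂ) := by
    have h1 : classInner (fun g : L => (χ : G2 → ℂ) (Matrix.SpecialLinearGroup.toGL g))
        (fun g : L => (χ : G2 → ℂ) (Matrix.SpecialLinearGroup.toGL g)) =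
        classInner (fun n : NS F => (χ : G2 → ℂ) n) (fun n : NS F => (χ : G2 → ℂ) n) := by
      simp only [classInner]
      rw [Nat.card_congr (eNS F).toEquiv]
      exact congrArg _ (Fintype.sum_equiv (eNS F).toEquiv _ _ fun g => rfl)
    rw [h1]
    conv_lhs => arg 1; ext n; rw [hval n, Finset.mul_sum]
    rw [classInner_sum]
    have h2 : ∀ η ∈ orbit (NS F) θ, classInner (η : NS F → ℂ) (fun n : NS F => (χ : G2 → ℂ) n) = (e : ℂ) := by
      intro η hη
      obtain ⟨g, rfl⟩ := (mem_orbit (NS F)).1 hη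
      rw [classInner_symm, classInner_res_conjIrr (NS F) _ (IsCharacter.isClassFunction (isCharacter_irr χ)), hinner,
        map_natCast]
    rw [Finset.sum_congr rfl (fun η hη => by rw [h2 η hη]), Finset.sum_const, nsmul_eq_mul, hYc]
    push_cast; ring
  have hek : e * e * Y.card = k := by
    have := hnorm.symm.trans hk
    exact_mod_cast this
  have hYpos : 0 < Y.card := by
    rw [hYc]; exact Finset.card_pos.2 ⟨θ, (mem_orbit (NS F)).2 ⟨1, (conjIrr_one (NS F) θ).symm⟩⟩
  have he1 : e = 1 := by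
    by_contra hne
    have h4 : 2 * 2 * 1 ≤ e * e * Y.card := Nat.mul_le_mul (Nat.mul_le_mul (by omega) (by omega)) hYpos
    omega
  subst he1
  rw [one_mul, one_mul] at hek
  refine ⟨Y, by omega, fun h => ?_, ?_, by rw [hnorm, one_mul, one_mul], fun g => by rw [hres g, Nat.cast_one, one_mul]⟩
  · have := hk1 h; omega
  · rw [hdeg, one_mul, hYc]


/-- Every character of `SL₂` lies under a character of `GL₂`, of degree at most twice as large. -/
theorem exists_over (ψ : IrrCharacter L) :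
    ∃ (χ : IrrCharacter G2) (Y : Finset G2), (Y.card = 1 ∨ Y.card = 2) ∧
      (Even (Fintype.card F) → Y.card = 1) ∧
      charDegree (χ : G2 → ℂ) = Y.card * charDegree (ψ : L → ℂ) ∧
      classInner (fun g : L => (χ : G2 → ℂ) (Matrix.SpecialLinearGroup.toGL g))
        (fun g : L => (χ : G2 → ℂ) (Matrix.SpecialLinearGroup.toGL g)) = (Y.card : ℂ) ∧
      (∀ g : L, (χ : G2 → ℂ) (Matrix.SpecialLinearGroup.toGL g) = ∑ y ∈ Y, (ψ : L → ℂ) (cg y g)) := by
  classical
  haveI : Fintype (NS F) := Fintype.ofFinite _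
  let θ : IrrCharacter (NS F) := ⟨fun n => (ψ : L → ℂ) ((eNS F).symm n),
    IsIrrCharacter.comp ψ.2 (eNS F).symm.toMonoidHom (eNS F).symm.surjective⟩
  have hind := IsCharacter.indFun (NS F) (isCharacter_irr θ)
  obtain ⟨χ, hχ⟩ : ∃ χ : IrrCharacter G2, classInner (indFun (NS F) (θ : NS F → ℂ)) (χ : G2 → ℂ) ≠ 0 := by
    by_contra hc
    push Not at hc
    have h := classFunction_expand (IsCharacter.isClassFunction hind) 1
    simp only [hc, zero_mul, Finset.sum_const_zero, indFun_one] at h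
    exact mul_ne_zero (Nat.cast_ne_zero.2 (NS F).index_ne_zero_of_finite) (irr_one_ne_zero θ) h
  obtain ⟨Y, h1, h2, h3, h4, h5⟩ := orbit_res χ θ (by
    rw [CfsgLib.Chars.frobenius (NS F) _ (IsCharacter.isClassFunction (isCharacter_irr χ)),
      classInner_character_comm (isCharacter_irr θ) (IsCharacter.restrict (isCharacter_irr χ) (NS F))] at hχ
    exact hχ)
  refine ⟨χ, Y, h1, h2, ?_, h4, fun g => ?_⟩
  · rw [h3]
    congr 1
    show charDegree (θ : NS F → ℂ) = _
    simp [charDegree, θ]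
  · rw [h5 g]
    refine Finset.sum_congr rfl fun y _ => ?_
    show (ψ : L → ℂ) ((eNS F).symm (eNS F (cg y g))) = _
    rw [MulEquiv.symm_apply_apply]

/-- Restrictions are irreducible in characteristic two or for odd degree. -/
theorem res_irr (χ : IrrCharacter G2) (h : Even (Fintype.card F) ∨ Odd (charDegree (χ : G2 → ℂ))) :
    IsIrrCharacter L (fun g => (χ : G2 → ℂ) (Matrix.SpecialLinearGroup.toGL g)) := by
  classical
  haveI : Fintype (NS F) := Fintype.ofFinite _
  obtain ⟨θ, hθ⟩ := exists_res_constituent (NS F) χ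
  obtain ⟨Y, h12, hev, hdeg, hn, -⟩ := orbit_res χ θ hθ
  have hY : Y.card = 1 := by
    rcases h12 with h1 | h2
    · exact h1
    · rcases h with h | h
      · exact hev h
      · rw [hdeg, h2, Nat.odd_iff] at h; omega
  refine isIrrCharacter_of_norm_one ?_ (by rw [hn, hY, Nat.cast_one])
  obtain ⟨n, ρ, hρ⟩ := isCharacter_irr χ
  exact ⟨n, ρ.comp Matrix.SpecialLinearGroup.toGL, by rw [← hρ]; rfl⟩

end CfsgLib.SL2Borel
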