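import Mathlib
import Cfsg.Agent.Lib.SL2Borel.Restrict
import Cfsg.Agent.Lib.SL2Borel.Classes

/-!
# Character values of `SL₂`
-/

set_option autoImplicit false

namespace CfsgLib.SL2Borel

open Matrix CfsgLib.Chars Cfsg
open CfsgLib.GL2Borel (lam lam_apply wt IsCusp)
open scoped ComplexConjugate

universe u

variable {F : Type u} [Field F] [Fintype F] [DecidableEq F]

local notation "G2" => Matrix.GeneralLinearGroup (Fin 2) F
local notation "L" => Matrix.SpecialLinearGroup (Fin 2) F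
local notation "M2" => Matrix (Fin 2) (Fin 2) F

/-- Upper unitriangular element. -/
def uu (c : F) : L := ⟨!![1, c; 0, 1], by simp [Matrix.det_fin_two]⟩

omit [Fintype F] [DecidableEq F] in
theorem uu_coe (c : F) : ((uu c : L) : M2) = !![1, c; 0, 1] := rfl

omit [Fintype F] [DecidableEq F] in
theorem toGL_coe (g : L) : ((Matrix.SpecialLinearGroup.toGL g : G2) : M2) = (g : M2) := rfl

omit [Fintype F] [DecidableEq F] in
theorem det_toGL (g : L) : Matrix.GeneralLinearGroup.det (Matrix.SpecialLinearGroup.toGL g : G2) = 1 :=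
  Units.ext (by rw [Matrix.GeneralLinearGroup.val_det_apply]; exact g.2)

/-- `diag(a, 1)`. -/
def dg (a : Fˣ) : G2 := Matrix.GeneralLinearGroup.mkOfDetNeZero !![(a : F), 0; 0, 1] (by simp [Matrix.det_fin_two])

omit [Fintype F] [DecidableEq F] in
theorem dg_coe (a : Fˣ) : ((dg a : G2) : M2) = !![(a : F), 0; 0, 1] := rfl

omit [Fintype F] [DecidableEq F] in
theorem det_dg (a : Fˣ) : Matrix.GeneralLinearGroup.det (dg a : G2) = a :=
  Units.ext (by rw [Matrix.GeneralLinearGroup.val_det_apply, dg_coe, Matrix.det_fin_two]; simp)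

theorem cg_det (ψ : IrrCharacter L) {y y' : G2}
    (h : Matrix.GeneralLinearGroup.det y = Matrix.GeneralLinearGroup.det y') (g : L) :
    (ψ : L → ℂ) (cg y g) = (ψ : L → ℂ) (cg y' g) := by
  have hs : y * y'⁻¹ ∈ NS F := by
    rw [NS, ← CfsgLib.Linear.Card.det_ker_eq (ι := Fin 2) (F := F), MonoidHom.mem_ker, map_mul, map_inv, h, mul_inv_cancel]
  obtain ⟨s, hs⟩ := hs
  rw [← IsCharacter.isClassFunction (isCharacter_irr ψ) (cg y' g) s]
  refine congrArg _ (CfsgLib.Linear.Card.toGL_injective ?_)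
  rw [toGL_cg, map_mul, map_mul, map_inv, hs, toGL_cg]
  group

theorem cg_dg_uu (a : Fˣ) (c : F) : cg (dg a) (uu c) = uu ((a : F) * c) := by
  refine CfsgLib.Linear.Card.toGL_injective ?_
  rw [toGL_cg, mul_inv_eq_iff_eq_mul]
  refine Units.ext ?_
  rw [Units.val_mul, Units.val_mul, dg_coe, toGL_coe, toGL_coe, uu_coe, uu_coe]
  ext i j
  fin_cases i <;> fin_cases j <;> simp [Matrix.mul_apply, Fin.sum_univ_two]

theorem sum_uu_cg (ψ : IrrCharacter L) (y : G2) :
    ∑ c : F, (ψ : L → ℂ) (cg y (uu c)) = ∑ c : F, (ψ : L → ℂ) (uu c) := by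
  set a := Matrix.GeneralLinearGroup.det y with ha
  have h : ∀ c : F, (ψ : L → ℂ) (cg y (uu c)) = (ψ : L → ℂ) (uu ((a : F) * c)) := fun c => by
    rw [cg_det ψ (y' := dg a) (by rw [det_dg]) (uu c), cg_dg_uu]
  simp only [h]
  exact Fintype.sum_equiv (Equiv.mulLeft₀ (a : F) a.ne_zero) _ _ fun c => rfl

omit [Fintype F] [DecidableEq F] in
theorem exists_commutant_diag (g : L) (h01 : (g : M2) 0 1 = 0) (h10 : (g : M2) 1 0 = 0) (a : Fˣ) :
    ∃ c : G2, c * Matrix.SpecialLinearGroup.toGL g = Matrix.SpecialLinearGroup.toGL g * c ∧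
      Matrix.GeneralLinearGroup.det c = a := by
  refine ⟨dg a, Units.ext ?_, det_dg a⟩
  rw [Units.val_mul, Units.val_mul, dg_coe, toGL_coe]
  ext i j
  fin_cases i <;> fin_cases j <;> simp [Matrix.mul_apply, Fin.sum_univ_two, h01, h10, mul_comm]

omit [DecidableEq F] in
theorem exists_commutant_elliptic (g : L)
    (hno : ∀ (c : F) (v : Fin 2 → F), v ≠ 0 → (g : M2).mulVec v ≠ c • v) (a : Fˣ) :
    ∃ c : G2, c * Matrix.SpecialLinearGroup.toGL g = Matrix.SpecialLinearGroup.toGL g * c ∧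
      Matrix.GeneralLinearGroup.det c = a := by
  classical
  have hd := det_eq g
  set t := (g : M2) 0 0 + (g : M2) 1 1 with ht
  have key : ∃ x y : F, x * x + t * x * y + y * y = (a : F) := by
    by_cases h2 : (2 : F) = 0
    · have hchar : ringChar F = 2 := by
        by_contra hc
        exact Ring.two_ne_zero hc h2
      obtain ⟨r, hr⟩ := FiniteField.isSquare_of_char_two hchar (a : F)
      exact ⟨r, 0, by rw [hr]; ring⟩
    · have hc : (1 : F) - t * t / 4 ≠ 0 := by
        intro h0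
        have h4 : (4 : F) ≠ 0 := by
          rw [show (4 : F) = 2 * 2 by norm_num]; exact mul_ne_zero h2 h2
        rw [sub_eq_zero, eq_div_iff h4] at h0
        have h10 : (g : M2) 1 0 ≠ 0 := by
          intro h10
          refine hno ((g : M2) 0 0) ![1, 0] (by simp) ?_
          funext i
          fin_cases i <;> simp [Matrix.mulVec, dotProduct, Fin.sum_univ_two, h10]
        refine hno (t / 2) ![(g : M2) 0 0 - t / 2, (g : M2) 1 0] (fun h => h10 ?_) ?_
        · simpa using congrFun h 1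
        funext i
        fin_cases i <;> simp [Matrix.mulVec, dotProduct, Fin.sum_univ_two] <;> field_simp
        · rw [ht] at h0 ⊢
          linear_combination (-(4 : F)) * hd - h0
        · rw [ht]; ring
      have hodd : Fintype.card F % 2 = 1 := FiniteField.odd_card_of_char_ne_two (fun h => h2 (by
        haveI := ringChar.of_eq h
        exact CharTwo.two_eq_zero))
      obtain ⟨x, y, hxy⟩ := FiniteField.exists_root_sum_quadratic
        (f := (Polynomial.X ^ 2 : Polynomial F))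
        (g := Polynomial.C ((1 : F) - t * t / 4) * Polynomial.X ^ 2 - Polynomial.C (a : F))
        (Polynomial.degree_X_pow 2) (by
          rw [Polynomial.degree_sub_eq_left_of_degree_lt] <;>
            rw [Polynomial.degree_C_mul hc, Polynomial.degree_X_pow]
          · rfl
          · exact lt_of_le_of_lt Polynomial.degree_C_le (by norm_num)) hodd
      simp at hxy
      refine ⟨x - t * y / 2, y, ?_⟩
      have h4 : (4 : F) = 2 * 2 := by norm_num
      rw [h4] at hxy
      field_simp at hxy ⊢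
      linear_combination hxy
  obtain ⟨x, y, hxy⟩ := key
  have hdet : (x • (1 : M2) + y • (g : M2)).det = (a : F) := by
    rw [Matrix.det_fin_two]
    simp [Matrix.add_apply, Matrix.smul_apply]
    linear_combination hxy + y * y * hd + (x * y) * ht.symm
  refine ⟨Matrix.GeneralLinearGroup.mkOfDetNeZero _ (hdet ▸ a.ne_zero), Units.ext ?_, Units.ext ?_⟩
  · show (x • (1 : M2) + y • (g : M2)) * (g : M2) = (g : M2) * (x • (1 : M2) + y • (g : M2))
    simp [Matrix.add_mul, Matrix.mul_add]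
  · rw [Matrix.GeneralLinearGroup.val_det_apply]
    exact hdet

/-- Values at elements whose `GL₂`-centraliser has surjective determinant. -/
theorem val_of_commutant (ψ : IrrCharacter L) (χ : IrrCharacter G2) (Y : Finset G2)
    (hY : ∀ g : L, (χ : G2 → ℂ) (Matrix.SpecialLinearGroup.toGL g) = ∑ y ∈ Y, (ψ : L → ℂ) (cg y g))
    (g : L) (hc : ∀ a : Fˣ, ∃ c : G2, c * Matrix.SpecialLinearGroup.toGL g = Matrix.SpecialLinearGroup.toGL g * c ∧
      Matrix.GeneralLinearGroup.det c = a) :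
    (χ : G2 → ℂ) (Matrix.SpecialLinearGroup.toGL g) = (Y.card : ℂ) * (ψ : L → ℂ) g := by
  rw [hY g, Finset.sum_congr rfl (fun y _ => cg_eq ψ y g (hc _)), Finset.sum_const, nsmul_eq_mul]

theorem val_of_card_one (ψ : IrrCharacter L) (χ : IrrCharacter G2) (Y : Finset G2)
    (hY : ∀ g : L, (χ : G2 → ℂ) (Matrix.SpecialLinearGroup.toGL g) = ∑ y ∈ Y, (ψ : L → ℂ) (cg y g))
    (hd : charDegree (χ : G2 → ℂ) = charDegree (ψ : L → ℂ))
    (hn : classInner (fun g : L => (χ : G2 → ℂ) (Matrix.SpecialLinearGroup.toGL g))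
      (fun g : L => (χ : G2 → ℂ) (Matrix.SpecialLinearGroup.toGL g)) = (Y.card : ℂ)) (hY1 : Y.card = 1) (g : L) :
    (ψ : L → ℂ) g = (χ : G2 → ℂ) (Matrix.SpecialLinearGroup.toGL g) := by
  classical
  obtain ⟨y, rfl⟩ := Finset.card_eq_one.1 hY1
  simp only [Finset.sum_singleton] at hY
  let ψ' : IrrCharacter L := ⟨fun g => (ψ : L → ℂ) (cg y g),
    IsIrrCharacter.comp ψ.2 (cg y).toMonoidHom (cg y).surjective⟩
  by_cases he : ψ' = ψ
  · rw [hY g]; exact (congrFun (congrArg Subtype.val he) g).symm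
  exfalso
  -- the orbit of `ψ` would have two members
  apply he
  refine Subtype.ext (funext fun g => ?_)
  have hfix : ∀ z : G2, ∀ g : L, (χ : G2 → ℂ) (Matrix.SpecialLinearGroup.toGL (cg z g)) =
      (χ : G2 → ℂ) (Matrix.SpecialLinearGroup.toGL g) := fun z g => by
    rw [toGL_cg]; exact IsCharacter.isClassFunction (isCharacter_irr χ) _ z
  show (ψ : L → ℂ) (cg y g) = (ψ : L → ℂ) g
  rw [← hY g, ← hfix y⁻¹ g, hY]
  refine congrArg _ (CfsgLib.Linear.Card.toGL_injective ?_)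
  rw [toGL_cg, toGL_cg]
  group

theorem sum_uu_over (ψ : IrrCharacter L) (χ : IrrCharacter G2) (Y : Finset G2)
    (hY : ∀ g : L, (χ : G2 → ℂ) (Matrix.SpecialLinearGroup.toGL g) = ∑ y ∈ Y, (ψ : L → ℂ) (cg y g)) :
    ∑ c : F, (χ : G2 → ℂ) (Matrix.SpecialLinearGroup.toGL (uu c)) = (Y.card : ℂ) * ∑ c : F, (ψ : L → ℂ) (uu c) := by
  simp only [hY]
  rw [Finset.sum_comm, Finset.sum_congr rfl (fun y _ => sum_uu_cg ψ y), Finset.sum_const, nsmul_eq_mul]

/-- The degree pattern for a character of `SL₂`. -/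
theorem over_degree (ψ : IrrCharacter L) :
    ∃ (χ : IrrCharacter G2) (Y : Finset G2), (Y.card = 1 ∨ Y.card = 2) ∧
      charDegree (χ : G2 → ℂ) = Y.card * charDegree (ψ : L → ℂ) ∧
      (∀ g : L, (χ : G2 → ℂ) (Matrix.SpecialLinearGroup.toGL g) = ∑ y ∈ Y, (ψ : L → ℂ) (cg y g)) ∧
      (Y.card = 1 → ∀ g : L, (ψ : L → ℂ) g = (χ : G2 → ℂ) (Matrix.SpecialLinearGroup.toGL g)) ∧
      (charDegree (χ : G2 → ℂ) = 1 ∨ charDegree (χ : G2 → ℂ) = Fintype.card F - 1 ∨
        charDegree (χ : G2 → ℂ) = Fintype.card F ∨ charDegree (χ : G2 → ℂ) = Fintype.card F + 1) ∧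
      (Even (Fintype.card F) → Y.card = 1) := by
  obtain ⟨χ, Y, hc, hev, hd, hn, hY⟩ := exists_over ψ
  exact ⟨χ, Y, hc, hd, hY, fun h1 => val_of_card_one ψ χ Y hY (by rw [hd, h1, one_mul]) hn h1,
    (CfsgLib.GL2Borel.degrees (F := F)).1 χ, hev⟩

theorem chi_upper (χ : IrrCharacter G2) (hd : charDegree (χ : G2 → ℂ) = Fintype.card F)
    (g : L) (h10 : (g : M2) 1 0 = 0) (heq : (g : M2) 0 0 = (g : M2) 1 1) (h01 : (g : M2) 0 1 ≠ 0) :
    (χ : G2 → ℂ) (Matrix.SpecialLinearGroup.toGL g) = 0 := by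
  obtain ⟨α, hS⟩ := CfsgLib.GL2Borel.of_degree_card χ (by rw [irr_apply_one, hd])
  rw [hS, CfsgLib.GL2Borel.indFun_eq, lam_apply, toGL_coe, if_pos h10, Finset.sum_eq_zero, add_zero, h10, mul_zero,
    sub_zero, map_mul, sub_self]
  intro x _
  rw [if_neg]
  simp [h10, heq, h01]

theorem sum_uu_gl (χ : IrrCharacter G2) :
    (charDegree (χ : G2 → ℂ) = Fintype.card F + 1 →
      ∑ c : F, (χ : G2 → ℂ) (Matrix.SpecialLinearGroup.toGL (uu c)) = 2 * (Fintype.card F : ℂ)) ∧
    (charDegree (χ : G2 → ℂ) = Fintype.card F →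
      ∑ c : F, (χ : G2 → ℂ) (Matrix.SpecialLinearGroup.toGL (uu c)) = (Fintype.card F : ℂ)) ∧
    (3 ≤ Fintype.card F → charDegree (χ : G2 → ℂ) = Fintype.card F - 1 →
      ∑ c : F, (χ : G2 → ℂ) (Matrix.SpecialLinearGroup.toGL (uu c)) = 0) := by
  have h1 : (Matrix.SpecialLinearGroup.toGL (uu (0 : F)) : G2) = 1 := Units.ext (by
    rw [toGL_coe, uu_coe, Units.val_one]; ext i j; fin_cases i <;> fin_cases j <;> simp)
  have hq : (1 : ℕ) ≤ Fintype.card F := Fintype.card_pos
  refine ⟨fun hd => ?_, fun hd => ?_, fun h3 hd => ?_⟩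
  · obtain ⟨α, β, hP⟩ := CfsgLib.GL2Borel.of_degree_succ χ (by rw [irr_apply_one, hd]; push_cast; rfl)
    have hv : ∀ c : F, c ≠ 0 → (χ : G2 → ℂ) (Matrix.SpecialLinearGroup.toGL (uu c)) = 1 := fun c hc => by
      rw [hP, CfsgLib.GL2Borel.indFun_eq, toGL_coe, uu_coe]
      simp [hc]
    rw [← Finset.add_sum_erase _ _ (Finset.mem_univ (0 : F)),
      Finset.sum_congr rfl (fun c hc => hv c (Finset.ne_of_mem_erase hc)), Finset.sum_const,
      Finset.card_erase_of_mem (Finset.mem_univ _), Finset.card_univ, h1, irr_apply_one, hd, nsmul_eq_mul, mul_one,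
      Nat.cast_sub hq]
    push_cast
    ring
  · rw [← Finset.add_sum_erase _ _ (Finset.mem_univ (0 : F)),
      Finset.sum_congr rfl (fun c hc => chi_upper χ hd (uu c) (by simp [uu_coe]) (by simp [uu_coe])
        (by simpa [uu_coe] using Finset.ne_of_mem_erase hc)), Finset.sum_const_zero, add_zero, h1, irr_apply_one, hd]
  · have hc := CfsgLib.GL2Borel.of_degree_pred χ h3 (by rw [irr_apply_one, hd, Nat.cast_sub hq, Nat.cast_one])
    refine Eq.trans (Finset.sum_congr rfl fun c _ => congrArg _ (Units.ext ?_)) (hc 1 1)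
    rw [toGL_coe, uu_coe, CfsgLib.GL2Borel.belt_coe]; rfl

end CfsgLib.SL2Borel
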