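import Mathlib
import Cfsg.Agent.Lib.SL2Borel.Values
import Cfsg.Agent.Lib.SL2.ClassNumber

/-!
# Degrees of the characters of `SL₂`
-/

set_option autoImplicit false

namespace CfsgLib.SL2Borel

open Matrix CfsgLib.Chars Cfsg
open CfsgLib.GL2Borel (lam lam_apply lam_degree wt IsCusp)
open scoped ComplexConjugate

universe u

variable {F : Type u} [Field F] [Fintype F] [DecidableEq F]

local notation "G2" => Matrix.GeneralLinearGroup (Fin 2) F
local notation "L" => Matrix.SpecialLinearGroup (Fin 2) F
local notation "M2" => Matrix (Fin 2) (Fin 2) F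

theorem lam_res (α : MulChar F ℂ) (g : L) : (lam α : G2 → ℂ) (Matrix.SpecialLinearGroup.toGL g) = 1 := by
  rw [lam_apply, toGL_coe, det_eq, map_one]

theorem principal_res_eq (α : MulChar F ℂ) (g : L) :
    indFun (Cfsg.upperTriangularGL 2 F) (wt α α) (Matrix.SpecialLinearGroup.toGL g : G2) =
      indFun (Cfsg.upperTriangularGL 2 F) (wt 1 1) (Matrix.SpecialLinearGroup.toGL g : G2) := by
  have hd := det_eq g
  rw [CfsgLib.GL2Borel.indFun_eq, CfsgLib.GL2Borel.indFun_eq, toGL_coe]
  have hone : ∀ (β : MulChar F ℂ) (x y : F), x * y = 1 → β x * β y = 1 := fun β x y h => by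
    rw [← map_mul, h, map_one]
  congr 1
  · split_ifs with h10
    · rw [h10, mul_zero, sub_zero] at hd
      rw [hone α _ _ hd, hone 1 _ _ hd]
    · rfl
  · refine Finset.sum_congr rfl fun x _ => ?_
    split_ifs with hx
    · have e : ((g : M2) 1 0 * x + (g : M2) 1 1) * ((g : M2) 0 0 - (g : M2) 1 0 * x) = 1 := by
        linear_combination hd - (g : M2) 1 0 * hx
      rw [hone α _ _ e, hone 1 _ _ e]
    · rfl

/-- Two characters of degree `q` are equal. -/
theorem deg_card_unique (ψ ψ' : IrrCharacter L) (h : charDegree (ψ : L → ℂ) = Fintype.card F)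
    (h' : charDegree (ψ' : L → ℂ) = Fintype.card F) : ψ = ψ' := by
  have key : ∀ φ : IrrCharacter L, charDegree (φ : L → ℂ) = Fintype.card F → ∀ g : L, (φ : L → ℂ) g =
      indFun (Cfsg.upperTriangularGL 2 F) (wt 1 1) (Matrix.SpecialLinearGroup.toGL g : G2) - 1 := by
    intro φ hφ g
    obtain ⟨X, Y, hY12, hd, hY, hval, hcases, -⟩ := over_degree φ
    have hq : 2 ≤ Fintype.card F := Fintype.one_lt_card
    rw [hφ] at hd
    have hY1 : Y.card = 1 := by
      rcases hY12 with h1 | h1
      · exact h1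
      · rw [h1] at hd; rcases hcases with c | c | c | c <;> omega
    rw [hY1, one_mul] at hd
    obtain ⟨α, hS⟩ := CfsgLib.GL2Borel.of_degree_card X (by rw [irr_apply_one, hd])
    rw [hval hY1 g, hS, lam_res, principal_res_eq]
  exact Subtype.ext (funext fun g => by rw [key ψ h g, key ψ' h' g])

/-- The trivial character is the only one of degree one. -/
theorem deg_one_unique (hq : 4 ≤ Fintype.card F) (ψ : IrrCharacter L) (h : charDegree (ψ : L → ℂ) = 1) :
    (ψ : L → ℂ) = fun _ => 1 := by
  obtain ⟨X, Y, hY12, hd, hY, hval, hcases, -⟩ := over_degree ψ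
  rw [h, mul_one] at hd
  have hY1 : Y.card = 1 := by
    rcases hY12 with h1 | h1
    · exact h1
    · rcases hcases with c | c | c | c <;> omega
  rw [hY1] at hd
  funext g
  rw [hval hY1 g]
  rcases CfsgLib.GL2Borel.classify X with hc | ⟨α, β, hab⟩ | ⟨α, he⟩ | ⟨α, hS⟩
  · have h1 := CfsgLib.GL2Borel.cusp_dvd X hc
    rw [hd] at h1
    have := Nat.le_of_dvd one_pos h1
    omega
  · have h1 := (hab 1).1
    rw [irr_apply_one, hd, CfsgLib.GL2Borel.principal_one, Nat.cast_one] at h1
    exact absurd (show (Fintype.card F : ℂ) = 0 by linear_combination -h1) (Nat.cast_ne_zero.2 Fintype.card_ne_zero)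
  · rw [he, lam_res]
  · have h1 := hS 1
    rw [irr_apply_one, hd, CfsgLib.GL2Borel.principal_one, lam_degree, Nat.cast_one] at h1
    have h2 : ((1 : ℕ) : ℂ) = (Fintype.card F : ℂ) := by push_cast; linear_combination h1
    have h3 : (1 : ℕ) = Fintype.card F := by exact_mod_cast h2
    omega

/-- The Steinberg character. -/
theorem exists_deg_card : ∃ ψ : IrrCharacter L, charDegree (ψ : L → ℂ) = Fintype.card F ∧
    ∀ g : L, (ψ : L → ℂ) g = indFun (Cfsg.upperTriangularGL 2 F) (wt 1 1) (Matrix.SpecialLinearGroup.toGL g : G2) - 1 := by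
  obtain ⟨S, -, hS, -⟩ := CfsgLib.GL2Borel.exists_steinberg (1 : MulChar F ℂ)
  have hd : charDegree (S : G2 → ℂ) = Fintype.card F := by
    have h3 := hS 1
    rw [CfsgLib.GL2Borel.principal_one, lam_degree, irr_apply_one] at h3
    have h4 : (charDegree (S : G2 → ℂ) : ℂ) = (Fintype.card F : ℂ) := by linear_combination -h3
    exact_mod_cast h4
  have hirr := res_irr S (by
    rcases Nat.even_or_odd (Fintype.card F) with h | h
    · exact Or.inl h
    · exact Or.inr (hd ▸ h))
  refine ⟨⟨_, hirr⟩, ?_, fun g => ?_⟩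
  · have h := irr_apply_one (⟨_, hirr⟩ : IrrCharacter L)
    dsimp only at h ⊢
    rw [map_one, irr_apply_one, hd] at h
    exact_mod_cast h.symm
  · show (S : G2 → ℂ) _ = _
    rw [hS, lam_res]
    ring

theorem card_SL2 : Nat.card L = Fintype.card F * (Fintype.card F ^ 2 - 1) := by
  have h1 : (Fintype.card F - 1) * Nat.card L = Nat.card G2 := (CfsgLib.Linear.Card.card_GL_eq).symm
  rw [CfsgLib.GL2Borel.card_GL2_le] at h1
  have hq : 0 < Fintype.card F - 1 := by have := Fintype.one_lt_card (α := F); omega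
  refine Nat.eq_of_mul_eq_mul_left hq (h1.trans ?_)
  rw [pow_two, ← Nat.mul_sub_one]
  ring

theorem even_counts (heven : Even (Fintype.card F)) (hq : 4 ≤ Fintype.card F) :
    Nat.card {ψ : IrrCharacter L // charDegree (ψ : L → ℂ) = Fintype.card F + 1} = (Fintype.card F - 2) / 2 ∧
    Nat.card {ψ : IrrCharacter L // charDegree (ψ : L → ℂ) = Fintype.card F - 1} = Fintype.card F / 2 := by
  classical
  haveI : Finite (IrrCharacter L) := finite_irr L
  set q := Fintype.card F with hq0
  obtain ⟨St, hSt, -⟩ := exists_deg_card (F := F)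
  let one : IrrCharacter L := ⟨fun _ => 1, isIrrCharacter_one L⟩
  have hone : charDegree (one : L → ℂ) = 1 := by simp [one, charDegree]
  set R := Finset.univ.filter fun ψ : IrrCharacter L => charDegree (ψ : L → ℂ) = q + 1 with hR
  set C := Finset.univ.filter fun ψ : IrrCharacter L => charDegree (ψ : L → ℂ) = q - 1 with hC
  have huniv : (Finset.univ : Finset (IrrCharacter L)) = ({one, St} ∪ R) ∪ C := by
    refine (Finset.eq_univ_of_forall fun ψ => ?_).symm
    simp only [Finset.mem_union, Finset.mem_insert, Finset.mem_singleton, R, C, Finset.mem_filter, Finset.mem_univ,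
      true_and]
    obtain ⟨X, Y, -, hd, -, -, hcases, hev⟩ := over_degree ψ
    rw [hev heven, one_mul] at hd
    rw [hd, ← hq0] at hcases
    rcases hcases with c | c | c | c
    · exact Or.inl (Or.inl (Or.inl (Subtype.ext (deg_one_unique hq ψ c))))
    · exact Or.inr c
    · exact Or.inl (Or.inl (Or.inr (deg_card_unique ψ St c hSt)))
    · exact Or.inl (Or.inr c)
  have hne : one ≠ St := fun h => by rw [h, hSt] at hone; omega
  have hd1 : Disjoint ({one, St} : Finset (IrrCharacter L)) R := Finset.disjoint_left.2 fun ψ h1 h2 => by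
    have := (Finset.mem_filter.1 h2).2
    rcases Finset.mem_insert.1 h1 with rfl | h
    · omega
    · rw [Finset.mem_singleton.1 h, hSt] at this; omega
  have hd2 : Disjoint ({one, St} ∪ R) C := Finset.disjoint_left.2 fun ψ h1 h2 => by
    have := (Finset.mem_filter.1 h2).2
    rcases Finset.mem_union.1 h1 with h | h
    · rcases Finset.mem_insert.1 h with rfl | h'
      · omega
      · rw [Finset.mem_singleton.1 h', hSt] at this; omega
    · have := (Finset.mem_filter.1 h).2; omega
  have hcount : 2 + R.card + C.card = q + 1 := by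
    have h2 : (2 : F) = 0 := by
      haveI := ringChar.of_eq (FiniteField.even_card_iff_char_two.2 (Nat.even_iff.1 heven))
      exact CharTwo.two_eq_zero
    have h := CfsgLib.SL2Torus.class_number (F := F)
    rw [if_pos h2, ← card_irr, Nat.card_eq_fintype_card, ← Finset.card_univ, huniv, Finset.card_union_of_disjoint hd2,
      Finset.card_union_of_disjoint hd1, Finset.card_pair hne] at h
    exact h
  have hsR : ∑ ψ ∈ R, charDegree (ψ : L → ℂ) ^ 2 = ∑ ψ ∈ R, (q + 1) ^ 2 :=
    Finset.sum_congr rfl fun ψ h => by rw [(Finset.mem_filter.1 h).2]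
  have hsC : ∑ ψ ∈ C, charDegree (ψ : L → ℂ) ^ 2 = ∑ ψ ∈ C, (q - 1) ^ 2 :=
    Finset.sum_congr rfl fun ψ h => by rw [(Finset.mem_filter.1 h).2]
  have hsum : 1 + q ^ 2 + R.card * (q + 1) ^ 2 + C.card * (q - 1) ^ 2 = q * (q ^ 2 - 1) := by
    have h := sum_deg_sq (G := L)
    rw [card_SL2, ← hq0, huniv, Finset.sum_union hd2, Finset.sum_union hd1, Finset.sum_pair hne, hone, hSt,
      hsR, hsC, Finset.sum_const, Finset.sum_const, smul_eq_mul, smul_eq_mul, one_pow] at h
    exact h
  have hA : 1 ≤ q ^ 2 := Nat.one_le_pow _ _ (by omega)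
  have hB : 1 ≤ q := by omega
  zify [hA, hB] at hsum hcount
  have key : (4 * (q : ℤ)) * ((2 * R.card + 2 : ℕ) - q : ℤ) = 0 := by
    push_cast
    linear_combination 2 * hsum - 2 * ((q : ℤ) - 1) ^ 2 * hcount
  have hne0 : (4 * (q : ℤ)) ≠ 0 := by
    have : (0 : ℤ) < q := by exact_mod_cast (show 0 < q by omega)
    omega
  have hres := sub_eq_zero.1 ((mul_eq_zero.1 key).resolve_left hne0)
  have hres' : 2 * R.card + 2 = q := by exact_mod_cast hres
  have hcount' : 2 + R.card + C.card = q + 1 := by exact_mod_cast hcount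
  rw [Nat.card_eq_fintype_card, Nat.card_eq_fintype_card, Fintype.card_subtype, Fintype.card_subtype]
  exact ⟨by rw [← hR]; omega, by rw [← hC]; omega⟩

end CfsgLib.SL2Borel
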