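import Mathlib
import Cfsg.Agent.Lib.SL2Borel.Degrees
import Cfsg.Prelude.Def_DegreeGraph

/-!
# Degree sets of `SL₂` and `PSL₂`
-/

set_option autoImplicit false

namespace CfsgLib.SL2Borel

open Matrix CfsgLib.Chars Cfsg

theorem charDegrees_congr {G : Type*} {H : Type*} [Group G] [Group H] (e : G ≃* H) :
    charDegrees G = charDegrees H := by
  ext d
  constructor
  · rintro ⟨χ, rfl⟩
    exact ⟨⟨_, CfsgLib.Chars.IsIrrCharacter.comp χ.2 e.symm.toMonoidHom e.symm.surjective⟩,
      by simp [charDegree]⟩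
  · rintro ⟨χ, rfl⟩
    exact ⟨⟨_, CfsgLib.Chars.IsIrrCharacter.comp χ.2 e.toMonoidHom e.surjective⟩, by simp [charDegree]⟩

variable {F : Type*} [Field F] [Fintype F]

local notation "L" => Matrix.SpecialLinearGroup (Fin 2) F

theorem center_eq_bot_of_even (heven : Even (Fintype.card F)) : Subgroup.center L = ⊥ := by
  rw [Subgroup.eq_bot_iff_forall]
  intro z hz
  obtain ⟨r, hr, hrz⟩ := Matrix.SpecialLinearGroup.mem_center_iff.1 hz
  haveI := ringChar.of_eq (FiniteField.even_card_iff_char_two.2 (Nat.even_iff.1 heven))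
  have hr2 : r ^ 2 = 1 := by simpa using hr
  have hr1 : r = 1 := by
    have h0 : (r + 1) * (r + 1) = 0 := by
      linear_combination hr2 + (r + 1) * CharTwo.two_eq_zero (R := F)
    exact CharTwo.add_eq_zero.1 (mul_self_eq_zero.1 h0)
  ext i j
  rw [← hrz, hr1, map_one, Matrix.SpecialLinearGroup.coe_one]

theorem charDegrees_even (heven : Even (Fintype.card F)) (hq : 4 ≤ Fintype.card F) :
    charDegrees L = {1, Fintype.card F - 1, Fintype.card F, Fintype.card F + 1} := by
  classical
  haveI : Finite (IrrCharacter L) := finite_irr L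
  obtain ⟨hR, hC⟩ := even_counts heven hq
  ext d
  simp only [Set.mem_insert_iff, Set.mem_singleton_iff]
  constructor
  · rintro ⟨χ, rfl⟩
    obtain ⟨X, Y, -, hd, -, -, hcases, hev⟩ := over_degree χ
    rw [hev heven, one_mul] at hd
    rw [hd] at hcases
    exact hcases
  · rintro (rfl | rfl | rfl | rfl)
    · exact ⟨⟨fun _ => 1, isIrrCharacter_one L⟩, by simp [charDegree]⟩
    · have hne : Nonempty {ψ : IrrCharacter L // charDegree (ψ : L → ℂ) = Fintype.card F - 1} :=
        (Nat.card_pos_iff.1 (by rw [hC]; omega)).1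
      exact hne.elim fun ψ => ⟨ψ.1, ψ.2⟩
    · obtain ⟨St, hSt, -⟩ := exists_deg_card (F := F)
      exact ⟨St, hSt⟩
    · have hne : Nonempty {ψ : IrrCharacter L // charDegree (ψ : L → ℂ) = Fintype.card F + 1} :=
        (Nat.card_pos_iff.1 (by rw [hR]; omega)).1
      exact hne.elim fun ψ => ⟨ψ.1, ψ.2⟩

end CfsgLib.SL2Borel
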